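import Mathlib.RingTheory.AdicCompletion.Completeness
import Groth.Prelude.Def_CAlgX

/-! Adic formal smoothness and completion. -/

universe u

namespace Groth.Agent.H1AdicFS

variable {R S : Type u} [CommRing R] [CommRing S]

theorem evalₐ_algebraMap (I : Ideal S) (n : ℕ) (s : S) :
    AdicCompletion.evalₐ I n (algebraMap S (AdicCompletion I S) s) = Ideal.Quotient.mk (I ^ n) s :=
  (AdicCompletion.evalₐ I n).commutes s

theorem ker_evalₐ (I : Ideal S) (hI : I.FG) (n : ℕ) (x : AdicCompletion I S)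
    (hx : AdicCompletion.evalₐ I n x = 0) : x ∈ (I.map (algebraMap S (AdicCompletion I S))) ^ n := by
  have h1 : x ∈ (AdicCompletion.eval I S n).ker := by
    rw [LinearMap.mem_ker, ← AdicCompletion.factor_evalₐ_eq_eval I x (by rw [smul_eq_mul, Ideal.mul_top]), hx, map_zero]
  rw [← AdicCompletion.pow_smul_top_eq_ker_eval hI, Ideal.smul_top_eq_map] at h1
  rw [← Ideal.map_pow]
  exact h1

theorem exists_sub_mem_pow (I : Ideal S) (hI : I.FG) (n : ℕ) (x : AdicCompletion I S) :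
    ∃ s : S, x - algebraMap S (AdicCompletion I S) s ∈ (I.map (algebraMap S (AdicCompletion I S))) ^ n := by
  obtain ⟨s, hs⟩ := Ideal.Quotient.mk_surjective (AdicCompletion.evalₐ I n x)
  exact ⟨s, ker_evalₐ I hI n _ (by rw [map_sub, evalₐ_algebraMap, hs, sub_self])⟩

/-- A ring map into a quotient by a square-zero ideal killing a power kills twice that power. -/
theorem kills_double {T A : Type u} [CommRing T] [CommRing A] (J : Ideal A) (hJ : J ^ 2 = ⊥) (I : Ideal T) (k : ℕ)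
    (χ : T →+* A) (h : ∀ x ∈ I ^ k, χ x ∈ J) : ∀ x ∈ I ^ (k + k), χ x = 0 := by
  intro x hx
  rw [pow_add] at hx
  refine Submodule.mul_induction_on hx (fun a ha b hb => ?_) fun a b ha hb => by rw [map_add, ha, hb, add_zero]
  have h2 : χ (a * b) ∈ J ^ 2 := by rw [map_mul, pow_two]; exact Ideal.mul_mem_mul (h a ha) (h b hb)
  rwa [hJ] at h2

variable [Algebra R S]

/-- formal smoothness passes to and from the completion -/
theorem iff_completion (𝔫 : Ideal S) (h𝔫 : 𝔫.FG) :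
    CAlgX.IsAdicFormallySmooth R S 𝔫 ↔
      CAlgX.IsAdicFormallySmooth R (AdicCompletion 𝔫 S) (𝔫.map (algebraMap S (AdicCompletion 𝔫 S))) := by
  constructor
  · intro h A _ _ J hJ ψ hψ
    obtain ⟨k, hk⟩ := hψ
    obtain ⟨χ, hχ⟩ := h A J hJ (ψ.comp (IsScalarTower.toAlgHom R S (AdicCompletion 𝔫 S))) ⟨k, fun x hx => by
      refine hk _ ?_
      rw [← Ideal.map_pow]
      exact Ideal.mem_map_of_mem _ hx⟩
    have hχ' : ∀ s, Ideal.Quotient.mk J (χ s) = ψ (algebraMap S _ s) := fun s => DFunLike.congr_fun hχ s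
    have h2 := kills_double J hJ 𝔫 k χ.toRingHom fun x hx => Ideal.Quotient.eq_zero_iff_mem.1 ((hχ' x).trans (hk _ (by
      rw [← Ideal.map_pow]; exact Ideal.mem_map_of_mem _ hx)))
    refine ⟨(Ideal.Quotient.liftₐ (𝔫 ^ (k + k)) χ h2).comp
      ((AdicCompletion.evalₐ 𝔫 (k + k)).restrictScalars R), AlgHom.ext fun x => ?_⟩
    obtain ⟨s, hs⟩ := Ideal.Quotient.mk_surjective (AdicCompletion.evalₐ 𝔫 (k + k) x)
    have h3 := hk _ (Ideal.pow_le_pow_right (Nat.le_add_right k k)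
      (ker_evalₐ 𝔫 h𝔫 (k + k) (x - algebraMap S _ s) (by rw [map_sub, evalₐ_algebraMap, hs, sub_self])))
    rw [map_sub, sub_eq_zero] at h3
    show Ideal.Quotient.mk J (Ideal.Quotient.liftₐ (𝔫 ^ (k + k)) χ h2 (AdicCompletion.evalₐ 𝔫 (k + k) x)) = _
    rw [← hs, h3]
    exact hχ' s
  · intro h A _ _ J hJ ψ hψ
    obtain ⟨k, hk⟩ := hψ
    let ψ' : AdicCompletion 𝔫 S →ₐ[R] A ⧸ J := (Ideal.Quotient.liftₐ (𝔫 ^ k) ψ hk).comp
      ((AdicCompletion.evalₐ 𝔫 k).restrictScalars R)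
    obtain ⟨χ, hχ⟩ := h A J hJ ψ' ⟨k, fun x hx => by
      have h0 : AdicCompletion.evalₐ 𝔫 k x = 0 := by
        rw [← Ideal.map_pow] at hx
        have := (Ideal.map_le_iff_le_comap (K := RingHom.ker (AdicCompletion.evalₐ 𝔫 k).toRingHom)).2
          (fun s hs => by
            show AdicCompletion.evalₐ 𝔫 k (algebraMap S _ s) = 0
            rw [evalₐ_algebraMap, Ideal.Quotient.eq_zero_iff_mem]
            exact hs) hx
        exact this
      show Ideal.Quotient.liftₐ (𝔫 ^ k) ψ hk (AdicCompletion.evalₐ 𝔫 k x) = 0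
      rw [h0, map_zero]⟩
    refine ⟨χ.comp (IsScalarTower.toAlgHom R S (AdicCompletion 𝔫 S)), AlgHom.ext fun s => ?_⟩
    refine (DFunLike.congr_fun hχ (algebraMap S (AdicCompletion 𝔫 S) s)).trans ?_
    show Ideal.Quotient.liftₐ (𝔫 ^ k) ψ hk (AdicCompletion.evalₐ 𝔫 k (algebraMap S _ s)) = _
    rw [evalₐ_algebraMap]
    rfl

theorem iff_completion_map (𝔪 : Ideal R) (𝔫 : Ideal S) (h𝔪 : 𝔪.FG) (h𝔫 : 𝔫.FG)
    (hc : ∃ c : ℕ, (𝔪 ^ c).map (algebraMap R S) ≤ 𝔫)
    (ψc : AdicCompletion 𝔪 R →+* AdicCompletion 𝔫 S)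
    (hψc : ψc.comp (algebraMap R (AdicCompletion 𝔪 R)) =
      (algebraMap S (AdicCompletion 𝔫 S)).comp (algebraMap R S)) :
    CAlgX.IsAdicFormallySmooth R S 𝔫 ↔
      letI : Algebra (AdicCompletion 𝔪 R) (AdicCompletion 𝔫 S) := ψc.toAlgebra
      CAlgX.IsAdicFormallySmooth (AdicCompletion 𝔪 R) (AdicCompletion 𝔫 S)
        (𝔫.map (algebraMap S (AdicCompletion 𝔫 S))) := by
  letI : Algebra (AdicCompletion 𝔪 R) (AdicCompletion 𝔫 S) := ψc.toAlgebra
  obtain ⟨c, hc⟩ := hc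
  have hsq : ∀ r, ψc (algebraMap R (AdicCompletion 𝔪 R) r) = algebraMap R (AdicCompletion 𝔫 S) r := fun r =>
    (DFunLike.congr_fun hψc r).trans (IsScalarTower.algebraMap_apply R S (AdicCompletion 𝔫 S) r).symm
  haveI : IsScalarTower R (AdicCompletion 𝔪 R) (AdicCompletion 𝔫 S) :=
    IsScalarTower.of_algebraMap_eq fun r => (hsq r).symm
  -- agreement of ring maps out of the completion
  have hext : ∀ {A : Type u} [CommRing A] (f g : AdicCompletion 𝔪 R →+* A) (N : ℕ),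
      (∀ r, f (algebraMap R _ r) = g (algebraMap R _ r)) →
      (∀ z ∈ (𝔪.map (algebraMap R (AdicCompletion 𝔪 R))) ^ N, f z = g z) → ∀ x, f x = g x := by
    intro A _ f g N h1 h2 x
    obtain ⟨r, hr⟩ := exists_sub_mem_pow 𝔪 h𝔪 N x
    have := h2 _ hr
    rwa [map_sub, map_sub, h1, sub_left_inj] at this
  have hψN : ∀ k, ∀ z ∈ (𝔪.map (algebraMap R (AdicCompletion 𝔪 R))) ^ (c * k),
      ψc z ∈ (𝔫.map (algebraMap S (AdicCompletion 𝔫 S))) ^ k := by
    intro k z hz
    have h1 := Ideal.mem_map_of_mem ψc hz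
    rw [Ideal.map_pow, Ideal.map_map, hψc, ← Ideal.map_map, pow_mul, ← Ideal.map_pow, ← Ideal.map_pow] at h1
    rw [Ideal.map_pow] at h1
    rw [Ideal.map_pow] at hc
    exact Ideal.pow_right_mono (Ideal.map_mono hc) k h1
  constructor
  · intro h A _ _ J hJ ψ hψ
    obtain ⟨k, hk⟩ := hψ
    letI : Algebra R A := ((algebraMap (AdicCompletion 𝔪 R) A).comp (algebraMap R (AdicCompletion 𝔪 R))).toAlgebra
    haveI : IsScalarTower R (AdicCompletion 𝔪 R) A := IsScalarTower.of_algebraMap_eq fun _ => rfl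
    obtain ⟨χ, hχ⟩ := (iff_completion 𝔫 h𝔫).1 h A J hJ (ψ.restrictScalars R) ⟨k, hk⟩
    have hχ' : ∀ x, Ideal.Quotient.mk J (χ x) = ψ x := fun x => DFunLike.congr_fun hχ x
    have hcomm : ∀ z, χ (ψc z) = algebraMap (AdicCompletion 𝔪 R) A z := by
      refine hext (χ.toRingHom.comp ψc) (algebraMap (AdicCompletion 𝔪 R) A) (c * k + c * k) (fun r => ?_) fun z hz => ?_
      · show χ (ψc _) = _
        rw [hsq, AlgHom.commutes]
        rfl
      · rw [kills_double J hJ _ (c * k) (algebraMap (AdicCompletion 𝔪 R) A) (fun w hw => ?_) z hz,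
          kills_double J hJ _ (c * k) (χ.toRingHom.comp ψc) (fun w hw => ?_) z hz]
        · exact Ideal.Quotient.eq_zero_iff_mem.1 ((hχ' _).trans (hk _ (hψN k w hw)))
        · refine Ideal.Quotient.eq_zero_iff_mem.1 ?_
          have h1 := hk _ (hψN k w hw)
          rw [show ψc w = algebraMap (AdicCompletion 𝔪 R) (AdicCompletion 𝔫 S) w from rfl, AlgHom.commutes] at h1
          exact h1
    exact ⟨{ χ.toRingHom with commutes' := hcomm }, AlgHom.ext hχ'⟩
  · intro h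
    rw [iff_completion 𝔫 h𝔫]
    intro A _ _ J hJ ψ hψ
    obtain ⟨k, hk⟩ := hψ
    have hm : ∀ z ∈ 𝔪 ^ (c * k), algebraMap R A z ∈ J := fun z hz => by
      refine Ideal.Quotient.eq_zero_iff_mem.1 ?_
      have h1 := hk _ (hψN k (algebraMap R _ z) (by rw [← Ideal.map_pow]; exact Ideal.mem_map_of_mem _ hz))
      rw [hsq, AlgHom.commutes] at h1
      exact h1
    let a : AdicCompletion 𝔪 R →ₐ[R] A := (Ideal.Quotient.liftₐ (𝔪 ^ (c * k + c * k)) (Algebra.ofId R A)
      (kills_double J hJ 𝔪 (c * k) (algebraMap R A) hm)).comp (AdicCompletion.evalₐ 𝔪 (c * k + c * k))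
    letI : Algebra (AdicCompletion 𝔪 R) A := a.toRingHom.toAlgebra
    have hcomm : ∀ z, ψ (ψc z) = Ideal.Quotient.mk J (a z) := by
      refine hext (ψ.toRingHom.comp ψc) ((Ideal.Quotient.mk J).comp a.toRingHom) (c * k + c * k) (fun r => ?_) fun z hz => ?_
      · show ψ (ψc _) = Ideal.Quotient.mk J (a _)
        rw [hsq, AlgHom.commutes, AlgHom.commutes]
        rfl
      · have h0 : AdicCompletion.evalₐ 𝔪 (c * k + c * k) z = 0 := by
          rw [← Ideal.map_pow] at hz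
          exact (Ideal.map_le_iff_le_comap (K := RingHom.ker (AdicCompletion.evalₐ 𝔪 (c * k + c * k)).toRingHom)).2
            (fun s hs => by
              show AdicCompletion.evalₐ 𝔪 _ (algebraMap R _ s) = 0
              rw [evalₐ_algebraMap, Ideal.Quotient.eq_zero_iff_mem]
              exact hs) hz
        show ψ (ψc z) = Ideal.Quotient.mk J (a z)
        simp only [a, AlgHom.comp_apply, h0, map_zero]
        rw [hk _ (hψN k z (Ideal.pow_le_pow_right (Nat.le_add_right _ _) hz))]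
    obtain ⟨χ, hχ⟩ := h A J hJ { ψ.toRingHom with commutes' := hcomm } ⟨k, hk⟩
    refine ⟨{ χ.toRingHom with commutes' := fun r => ?_ }, AlgHom.ext fun x => DFunLike.congr_fun hχ x⟩
    show χ (algebraMap R (AdicCompletion 𝔫 S) r) = _
    rw [← hsq]
    exact (χ.commutes _).trans (a.commutes r)

end Groth.Agent.H1AdicFS
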